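import Groth.Agent.FlatLocus.ModFlat
import Groth.Agent.PullbackMod.Flat
import Groth.Agent.QCohLib.Push

set_option autoImplicit false
set_option backward.isDefEq.respectTransparency false
set_option backward.defeqAttrib.useBackward true
set_option linter.style.haveILetI false

/-!
# Flatness over the base and sections over affine opens
-/

universe u

open CategoryTheory AlgebraicGeometry Opposite

namespace Groth.Agent.FlatModLib

variable {X Y S : Scheme.{u}}

/-- the module of sections over `U` as a module over `Γ(S, V)` is flat -/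
abbrev SecFlat (f : X ⟶ S) (M : X.Modules) (U : X.Opens) (V : S.Opens) (h : U ≤ f ⁻¹ᵁ V) : Prop :=
  letI := Module.compHom Γ(M, U) (f.appLE V U h).hom
  Module.Flat Γ(S, V) Γ(M, U)

theorem isFlatOverAt_of_secFlat (f : X ⟶ S) (M : X.Modules) [Coh.IsQCoh M] {U : X.Opens}
    {V : S.Opens} (hU : IsAffineOpen U) (hV : IsAffineOpen V) (h : U ≤ f ⁻¹ᵁ V)
    (hfl : SecFlat f M U V h) (x : X) (hx : x ∈ U) : FlatMod.IsFlatOverAt f M x := by
  refine (FlatLocus.isFlatOverAt_iff f M hV hU h x hx).mpr ?_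
  letI := (f.appLE V U h).hom.toAlgebra
  letI := Module.compHom Γ(M, U) (f.appLE V U h).hom
  haveI : IsScalarTower Γ(S, V) Γ(X, U) Γ(M, U) := .of_algebraMap_smul fun _ _ => rfl
  haveI : Module.Flat Γ(S, V) Γ(M, U) := hfl
  let P := (hU.primeIdealOf ⟨x, hx⟩).asIdeal.primeCompl
  haveI : Module.Flat Γ(X, U) (Localization P) := IsLocalization.flat _ P
  exact PullbackMod.flat_of_isBaseChange_flat (A := Γ(S, V)) (LocalizedModule.mkLinearMap P Γ(M, U))
    (IsLocalizedModule.isBaseChange P (Localization P) _)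

theorem secFlat_of_isFlatOver (f : X ⟶ S) (M : X.Modules) [Coh.IsQCoh M] {U : X.Opens}
    {V : S.Opens} (hU : IsAffineOpen U) (hV : IsAffineOpen V) (h : U ≤ f ⁻¹ᵁ V)
    (hfl : ∀ x ∈ U, FlatMod.IsFlatOverAt f M x) : SecFlat f M U V h := by
  letI := (f.appLE V U h).hom.toAlgebra
  letI := Module.compHom Γ(M, U) (f.appLE V U h).hom
  haveI : IsScalarTower Γ(S, V) Γ(X, U) Γ(M, U) := .of_algebraMap_smul fun _ _ => rfl
  show Module.Flat Γ(S, V) Γ(M, U)
  refine Module.flat_of_isLocalized_maximal Γ(X, U) Γ(M, U)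
    (fun P _ => LocalizedModule P.primeCompl Γ(M, U))
    (fun P _ => LocalizedModule.mkLinearMap P.primeCompl Γ(M, U)) fun P hP => ?_
  let q : PrimeSpectrum Γ(X, U) := ⟨P, hP.isPrime⟩
  have hqU : hU.fromSpec q ∈ U := by
    rw [← SetLike.mem_coe, ← hU.range_fromSpec]
    exact ⟨q, rfl⟩
  have hq : hU.primeIdealOf ⟨hU.fromSpec q, hqU⟩ = q :=
    hU.fromSpec.isOpenEmbedding.injective (hU.fromSpec_primeIdealOf _)
  have h1 := (FlatLocus.isFlatOverAt_iff f M hV hU h _ hqU).mp (hfl _ hqU)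
  have key : ∀ r : PrimeSpectrum Γ(X, U), r = q →
      Module.Flat Γ(S, V) (LocalizedModule r.asIdeal.primeCompl Γ(M, U)) →
      Module.Flat Γ(S, V) (LocalizedModule P.primeCompl Γ(M, U)) := by
    rintro r rfl h
    exact h
  exact key _ hq h1

theorem exists_affines (f : X ⟶ S) (x : X) :
    ∃ (U : X.Opens) (V : S.Opens), IsAffineOpen U ∧ IsAffineOpen V ∧ U ≤ f ⁻¹ᵁ V ∧ x ∈ U := by
  obtain ⟨_, ⟨V : S.Opens, (hV : IsAffineOpen V), rfl⟩, hxV, -⟩ :=
    S.isBasis_affineOpens.exists_subset_of_mem_open (Set.mem_univ (f x)) isOpen_univ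
  obtain ⟨_, ⟨U : X.Opens, (hU : IsAffineOpen U), rfl⟩, hxU, hUV⟩ :=
    X.isBasis_affineOpens.exists_subset_of_mem_open (a := x) (u := ↑(f ⁻¹ᵁ V)) hxV (f ⁻¹ᵁ V).2
  exact ⟨U, V, hU, hV, hUV, hxU⟩

theorem isFlatOver_iff (f : X ⟶ S) (M : X.Modules) [Coh.IsQCoh M] :
    FlatMod.IsFlatOver f M ↔
      ∀ (U : X.Opens) (V : S.Opens) (h : U ≤ f ⁻¹ᵁ V), IsAffineOpen U → IsAffineOpen V →
        SecFlat f M U V h := by
  refine ⟨fun hfl U V h hU hV => secFlat_of_isFlatOver f M hU hV h fun x _ => hfl x, fun hall x => ?_⟩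
  obtain ⟨U, V, hU, hV, hUV, hxU⟩ := exists_affines f x
  exact isFlatOverAt_of_secFlat f M hU hV hUV (hall U V hUV hU hV) x hxU

/-- Sections of a direct image, as a module over an affine open of the base. -/
theorem secFlat_pushforward_iff (f : X ⟶ Y) (q : Y ⟶ S) (F : X.Modules) (W : Y.Opens) (V : S.Opens)
    (h : W ≤ q ⁻¹ᵁ V) (h' : f ⁻¹ᵁ W ≤ (f ≫ q) ⁻¹ᵁ V) :
    SecFlat q ((Scheme.Modules.pushforward f).obj F) W V h ↔ SecFlat (f ≫ q) F (f ⁻¹ᵁ W) V h' := by
  letI i1 : Module Γ(S, V) Γ((Scheme.Modules.pushforward f).obj F, W) :=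
    Module.compHom _ (q.appLE V W h).hom
  letI i2 : Module Γ(S, V) Γ(F, f ⁻¹ᵁ W) := Module.compHom _ ((f ≫ q).appLE V (f ⁻¹ᵁ W) h').hom
  have he : (f ≫ q).appLE V (f ⁻¹ᵁ W) h' = q.appLE V W h ≫ f.app W := by
    rw [Scheme.Hom.app_eq_appLE, Scheme.Hom.appLE_comp_appLE]
  let e : Γ((Scheme.Modules.pushforward f).obj F, W) ≃ₗ[Γ(S, V)] Γ(F, f ⁻¹ᵁ W) :=
    { toFun := fun x => x
      invFun := fun x => x
      map_add' := fun _ _ => rfl
      map_smul' := fun r x => by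
        show (q.appLE V W h).hom r • x = @HSMul.hSMul Γ(X, f ⁻¹ᵁ W) Γ(F, f ⁻¹ᵁ W) Γ(F, f ⁻¹ᵁ W) _
          (((f ≫ q).appLE V (f ⁻¹ᵁ W) h').hom r) x
        rw [he]
        rfl
      left_inv := fun _ => rfl
      right_inv := fun _ => rfl }
  exact ⟨fun hfl => by haveI : Module.Flat Γ(S, V) Γ((Scheme.Modules.pushforward f).obj F, W) := hfl
                       exact Module.Flat.of_linearEquiv e.symm,
    fun hfl => by haveI : Module.Flat Γ(S, V) Γ(F, f ⁻¹ᵁ W) := hfl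
                  exact Module.Flat.of_linearEquiv e⟩

end Groth.Agent.FlatModLib
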